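import Groth.Prelude.Def_AutSch
import Groth.Prelude.Def_Omega3
import Groth.Agent.H19Grp.TangentPow
import Mathlib.RingTheory.DualNumber
import Mathlib.AlgebraicGeometry.Morphisms.Flat

/-!
# First order automorphisms of a scheme over a field and derivations
-/

set_option autoImplicit false
set_option linter.style.haveILetI false
set_option linter.unusedSectionVars false
set_option backward.isDefEq.respectTransparency false
set_option maxHeartbeats 1000000

universe u

open CategoryTheory CategoryTheory.Limits MonoidalCategory CartesianMonoidalCategory AlgebraicGeometry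
  TopologicalSpace Opposite TrivSqZeroExt

noncomputable section

namespace Groth.Agent.H26AutInf

open Groth.Agent.H19Grp

variable {k : Type u} [Field k]

/-- The spectrum of the dual numbers. -/
abbrev T (k : Type u) [Field k] : Over (Spec (CommRingCat.of k)) := TangentPow.sqz k k

theorem appLE_congr {Y Z : Scheme.{u}} {f g : Y ⟶ Z} (h : f = g) (U : Z.Opens) (V : Y.Opens) (e : V ≤ f ⁻¹ᵁ U) :
    f.appLE U V e = g.appLE U V (h ▸ e) := by
  subst h; rfl

theorem appLE_specMap {A B : CommRingCat.{u}} (φ : A ⟶ B) (e : (⊤ : (Spec B).Opens) ≤ Spec.map φ ⁻¹ᵁ ⊤) (x : A) :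
    (Spec.map φ).appLE ⊤ ⊤ e ((Scheme.ΓSpecIso A).inv x) = (Scheme.ΓSpecIso B).inv (φ x) := by
  have h := ConcreteCategory.congr_hom (Scheme.ΓSpecIso_inv_naturality φ) x
  simp only [CommRingCat.comp_apply] at h
  rw [h, Scheme.Hom.appLE, CommRingCat.comp_apply]
  exact ConcreteCategory.congr_hom ((Spec B).presheaf.map_id (op ⊤)) _

variable (X : Over (Spec (CommRingCat.of k)))

/-- The trivial deformation. -/
abbrev P : Scheme.{u} := (X ⊗ T k).left

/-- The projection of the trivial deformation. -/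
def p : P X ⟶ X.left := (fst X (T k)).left

/-- The closed fibre. -/
def z : X ⟶ X ⊗ T k := lift (𝟙 X) (toUnit X ≫ TangentPow.red k k)

@[reassoc (attr := simp)]
theorem z_p : (z X).left ≫ p X = 𝟙 _ := by
  rw [p, ← Over.comp_left, z, lift_fst]
  rfl

/-- The infinitesimal. -/
def eps (W : (P X).Opens) : Γ(P X, W) :=
  ((snd X (T k)).left.appLE ⊤ W (by exact le_top)).hom
    ((Scheme.ΓSpecIso (TangentPow.sqzRing k k)).inv.hom (inr (1 : k)))

theorem eps_res {W W' : (P X).Opens} (h : W' ≤ W) : (P X).presheaf.map (homOfLE h).op (eps X W) = eps X W' :=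
  ConcreteCategory.congr_hom (Scheme.Hom.appLE_map (snd X (T k)).left (V := W) (V' := W') le_top (homOfLE h).op) _

theorem eps_mul_eps (W : (P X).Opens) : eps X W * eps X W = 0 := by
  rw [eps]
  erw [← map_mul, ← map_mul, inr_mul_inr, map_zero, map_zero]

theorem z_eps (W : (P X).Opens) : (z X).left.app W (eps X W) = 0 := by
  have e : (z X).left ≫ (snd X (T k)).left = X.hom ≫ (TangentPow.red k k).left := by
    rw [← Over.comp_left, z, lift_snd, Over.comp_left]
    rfl
  rw [Scheme.Hom.app_eq_appLE, eps]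
  rw [← CommRingCat.comp_apply, Scheme.Hom.appLE_comp_appLE, appLE_congr e]
  rw [← Scheme.Hom.appLE_comp_appLE X.hom (TangentPow.red k k).left ⊤ ⊤ _ le_top le_top, CommRingCat.comp_apply]
  have h0 : (TangentPow.red k k).left.appLE ⊤ ⊤ le_top
      ((Scheme.ΓSpecIso (TangentPow.sqzRing k k)).inv (inr (1 : k))) = 0 := by
    refine (appLE_specMap (CommRingCat.ofHom (TrivSqZeroExt.fstHom k k k).toRingHom :
      TangentPow.sqzRing k k ⟶ CommRingCat.of k) _ _).trans ?_
    show (Scheme.ΓSpecIso (CommRingCat.of k)).inv (fst (inr (1 : k) : TrivSqZeroExt k k)) = 0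
    rw [fst_inr, map_zero]
  exact (congrArg _ h0).trans (map_zero _)

/-- The linear map `a + ε b`. -/
def lin (U : X.left.Opens) (a b : Γ(X.left, U)) : Γ(P X, p X ⁻¹ᵁ U) :=
  (p X).app U a + eps X _ * (p X).app U b

theorem lin_add (U : X.left.Opens) (a b a' b' : Γ(X.left, U)) :
    lin X U (a + a') (b + b') = lin X U a b + lin X U a' b' := by
  unfold lin
  erw [map_add, map_add]
  ring

theorem lin_zero_right (U : X.left.Opens) (a : Γ(X.left, U)) : lin X U a 0 = (p X).app U a := by
  unfold lin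
  erw [map_zero, mul_zero, add_zero]

theorem lin_one (U : X.left.Opens) : lin X U 1 0 = 1 := (lin_zero_right X U 1).trans (map_one _)

theorem lin_zero (U : X.left.Opens) : lin X U 0 0 = 0 := (lin_zero_right X U 0).trans (map_zero _)

theorem lin_zero_left (U : X.left.Opens) (b : Γ(X.left, U)) : lin X U 0 b = eps X _ * (p X).app U b := by
  unfold lin
  erw [map_zero, zero_add]

theorem lin_mul (U : X.left.Opens) (a b a' b' : Γ(X.left, U)) :
    lin X U a b * lin X U a' b' = lin X U (a * a') (a * b' + a' * b) := by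
  simp only [lin, map_mul, map_add]
  linear_combination ((p X).app U b * (p X).app U b') * eps_mul_eps X (p X ⁻¹ᵁ U)

theorem lin_res {U V : X.left.Opens} (h : V ≤ U) (a b : Γ(X.left, U)) :
    (P X).presheaf.map (homOfLE (show p X ⁻¹ᵁ V ≤ p X ⁻¹ᵁ U from fun _ hx => h hx)).op (lin X U a b) =
      lin X V (X.left.presheaf.map (homOfLE h).op a) (X.left.presheaf.map (homOfLE h).op b) := by
  simp only [lin, map_add, map_mul, eps_res]
  have hn := fun s => ConcreteCategory.congr_hom ((p X).naturality (homOfLE h).op) s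
  simp only [CommRingCat.comp_apply] at hn
  rw [hn, hn]
  rfl

theorem z_lin (U : X.left.Opens) (a b : Γ(X.left, U)) (h : U ≤ (z X).left ⁻¹ᵁ (p X ⁻¹ᵁ U)) :
    (z X).left.appLE (p X ⁻¹ᵁ U) U h (lin X U a b) = a := by
  have he : (z X).left.appLE (p X ⁻¹ᵁ U) U h (eps X _) = 0 := by
    rw [Scheme.Hom.appLE, CommRingCat.comp_apply, z_eps, map_zero]
  rw [lin, map_add, map_mul, he, zero_mul, add_zero, Scheme.Hom.app_eq_appLE, ← CommRingCat.comp_apply,
    Scheme.Hom.appLE_comp_appLE, appLE_congr (z_p X)]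
  rw [Scheme.Hom.appLE, CommRingCat.comp_apply, Scheme.Hom.id_app]
  exact ConcreteCategory.congr_hom (X.left.presheaf.map_id (op U)) a

/-- Sections of the trivial deformation over an affine open. -/
theorem lin_bijective {U : X.left.Opens} (hU : IsAffineOpen U) :
    Function.Bijective fun ab : Γ(X.left, U) × Γ(X.left, U) => lin X U ab.1 ab.2 := by
  have H : IsPullback (p X) (snd X (T k)).left X.hom (T k).hom := IsPullback.of_hasPullback _ _
  have hpo := (isIso_pushoutSection_iff H (US := ⊤) (UT := ⊤) (UX := U) (UY := p X ⁻¹ᵁ U)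
    (by exact le_top) (by exact le_top) (by simp)).1
    (isIso_pushoutSection_of_isAffineOpen H _ _ _ (isAffineOpen_top (Spec (CommRingCat.of k))) (isAffineOpen_top (Spec (TangentPow.sqzRing k k))) hU)
  let c : k →+* Γ(X.left, U) := (X.hom.appLE ⊤ U le_top).hom.comp (Scheme.ΓSpecIso (CommRingCat.of k)).inv.hom
  let β : TrivSqZeroExt k k →+* TrivSqZeroExt Γ(X.left, U) Γ(X.left, U) :=
    { toFun := fun w => inl (c w.fst) + inr (c w.snd)
      map_one' := by ext <;> simp
      map_mul' := fun a b => by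
        ext
        · simp
        · simp only [snd_mul, fst_add, snd_add, fst_inl, snd_inl, fst_inr, snd_inr, map_mul, map_add, smul_eq_mul,
            MulOpposite.smul_eq_mul_unop, MulOpposite.unop_op, add_zero, zero_add]
      map_zero' := by ext <;> simp
      map_add' := fun a b => by ext <;> simp }
  let R := CommRingCat.of (TrivSqZeroExt Γ(X.left, U) Γ(X.left, U))
  let ia : Γ(X.left, U) ⟶ R := CommRingCat.ofHom (inlHom Γ(X.left, U) Γ(X.left, U))
  let ib : Γ((T k).left, ⊤) ⟶ R := (Scheme.ΓSpecIso (TangentPow.sqzRing k k)).hom ≫ CommRingCat.ofHom β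
  have hw : X.hom.appLE ⊤ U le_top ≫ ia = (T k).hom.appLE ⊤ ⊤ le_top ≫ ib := by
    rw [← cancel_epi (Scheme.ΓSpecIso (CommRingCat.of k)).inv]
    have hT : (Scheme.ΓSpecIso (CommRingCat.of k)).inv ≫ (T k).hom.appLE ⊤ ⊤ le_top =
        CommRingCat.ofHom (inlHom k k) ≫ (Scheme.ΓSpecIso (TangentPow.sqzRing k k)).inv := by
      ext r
      exact appLE_specMap (CommRingCat.ofHom (TrivSqZeroExt.inlHom k k) :
        CommRingCat.of k ⟶ TangentPow.sqzRing k k) _ r
    rw [reassoc_of% hT, Iso.inv_hom_id_assoc]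
    ext1
    refine RingHom.ext fun a => ?_
    show inlHom Γ(X.left, U) Γ(X.left, U) (c a) = β (inlHom k k a)
    simp only [β, RingHom.coe_mk, MonoidHom.coe_mk, OneHom.coe_mk, inlHom_apply, fst_inl, snd_inl, map_zero, inr_zero,
      add_zero]
  let Θ : Γ(P X, p X ⁻¹ᵁ U) ⟶ R := hpo.desc ia ib hw
  have h1 : ∀ a, Θ ((p X).app U a) = inl a := fun a => by
    rw [Scheme.Hom.app_eq_appLE]
    exact ConcreteCategory.congr_hom (hpo.inl_desc ia ib hw) a
  have h2 : Θ (eps X (p X ⁻¹ᵁ U)) = inr 1 := by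
    refine (ConcreteCategory.congr_hom (hpo.inr_desc ia ib hw) _).trans ?_
    simp only [ib, CommRingCat.comp_apply]
    erw [Iso.inv_hom_id_apply]
    show β (inr (1 : k)) = inr 1
    simp only [β, RingHom.coe_mk, MonoidHom.coe_mk, OneHom.coe_mk, fst_inr, snd_inr, map_one, map_zero, inl_zero,
      zero_add]
  have hΘ : ∀ a b, Θ (lin X U a b) = inl a + inr b := fun a b => by
    rw [lin, map_add, map_mul, h1, h1, h2, inr_mul_inl]
    simp
  constructor
  · rintro ⟨a, b⟩ ⟨a', b'⟩ h
    have := congrArg Θ h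
    simp only at this
    rw [hΘ, hΘ] at this
    have e1 : TrivSqZeroExt.fst (inl a + inr b : TrivSqZeroExt Γ(X.left, U) Γ(X.left, U)) =
        TrivSqZeroExt.fst (inl a' + inr b' : TrivSqZeroExt Γ(X.left, U) Γ(X.left, U)) := congrArg _ this
    have e2 : TrivSqZeroExt.snd (inl a + inr b : TrivSqZeroExt Γ(X.left, U) Γ(X.left, U)) =
        TrivSqZeroExt.snd (inl a' + inr b' : TrivSqZeroExt Γ(X.left, U) Γ(X.left, U)) := congrArg _ this
    rw [fst_add, fst_add, fst_inl, fst_inl, fst_inr, fst_inr, add_zero, add_zero] at e1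
    rw [snd_add, snd_add, snd_inl, snd_inl, snd_inr, snd_inr, zero_add, zero_add] at e2
    exact Prod.ext e1 e2
  · intro w
    let Λ : R ⟶ Γ(P X, p X ⁻¹ᵁ U) := CommRingCat.ofHom
      { toFun := fun r => lin X U r.fst r.snd
        map_one' := (congrArg₂ (lin X U) (fst_one (R := Γ(X.left, U)) (M := Γ(X.left, U))) (snd_one (R := Γ(X.left, U)) (M := Γ(X.left, U)))).trans (lin_one X U)
        map_mul' := fun r s => by
          rw [lin_mul]
          simp [mul_comm]
        map_zero' := (congrArg₂ (lin X U) (fst_zero (R := Γ(X.left, U)) (M := Γ(X.left, U))) (snd_zero (R := Γ(X.left, U)) (M := Γ(X.left, U)))).trans (lin_zero X U)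
        map_add' := fun r s => lin_add X U r.fst r.snd s.fst s.snd }
    have hid : Θ ≫ Λ = 𝟙 _ := by
      refine hpo.hom_ext ?_ ?_
      · rw [hpo.inl_desc_assoc, Category.comp_id]
        ext a
        refine (lin_zero_right X U a).trans ?_
        rw [Scheme.Hom.app_eq_appLE]
      · rw [hpo.inr_desc_assoc, Category.comp_id, ← cancel_epi (Scheme.ΓSpecIso (TangentPow.sqzRing k k)).inv]
        simp only [ib, Category.assoc, Iso.inv_hom_id_assoc]
        have hk : ∀ a : k, (p X).app U (c a) =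
            (snd X (T k)).left.appLE ⊤ (p X ⁻¹ᵁ U) le_top
              ((Scheme.ΓSpecIso (TangentPow.sqzRing k k)).inv (inl a)) := fun a => by
          have e : (snd X (T k)).left ≫ (T k).hom = p X ≫ X.hom := H.w.symm
          have hT := appLE_specMap (CommRingCat.ofHom (inlHom k k) : CommRingCat.of k ⟶ TangentPow.sqzRing k k)
            (by exact le_top) a
          rw [CommRingCat.ofHom_apply, inlHom_apply] at hT
          erw [← hT]
          rw [Scheme.Hom.app_eq_appLE]
          exact ConcreteCategory.congr_hom hpo.w _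
        refine CommRingCat.hom_ext (RingHom.ext fun (r : TrivSqZeroExt k k) => ?_)
        have hr : (r : TrivSqZeroExt k k) = inl r.fst + inl r.snd * inr 1 := by ext <;> simp
        show lin X U (TrivSqZeroExt.fst (β r)) (TrivSqZeroExt.snd (β r)) = _
        simp only [lin, β, RingHom.coe_mk, MonoidHom.coe_mk, OneHom.coe_mk, fst_add, snd_add, fst_inl, snd_inl,
          fst_inr, snd_inr, add_zero, zero_add, hk, eps]
        show _ = (snd X (T k)).left.appLE ⊤ (p X ⁻¹ᵁ U) le_top ((Scheme.ΓSpecIso (TangentPow.sqzRing k k)).inv r)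
        conv_rhs => rw [hr]
        erw [map_add, map_add, map_mul, map_mul]
        rw [mul_comm (((snd X (T k)).left.appLE ⊤ (p X ⁻¹ᵁ U) _).hom _)]
    refine ⟨(fst (Θ w), snd (Θ w)), ?_⟩
    exact ConcreteCategory.congr_hom hid w

/-- `ε b = 0` forces `b = 0`. -/
theorem eq_zero_of_eps_mul {U : X.left.Opens} {b : Γ(X.left, U)} (h : eps X _ * (p X).app U b = 0) : b = 0 := by
  refine X.left.sheaf.eq_of_locally_eq' (fun V : {V : X.left.Opens // IsAffineOpen V ∧ V ≤ U} => V.1) U
    (fun V => homOfLE V.2.2) (fun x hx => ?_) b 0 fun V => ?_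
  · obtain ⟨_, ⟨V, hV, rfl⟩, hxV, hVU⟩ := X.left.isBasis_affineOpens.exists_subset_of_mem_open hx U.isOpen
    exact Opens.mem_iSup.2 ⟨⟨V, hV, hVU⟩, hxV⟩
  · rw [map_zero]
    show X.left.presheaf.map (homOfLE V.2.2).op b = 0
    have h' := lin_res X V.2.2 0 b
    rw [lin_zero_left, h, map_zero, map_zero, lin_zero_left] at h'
    have := @(lin_bijective X V.2.1).1 (0, X.left.presheaf.map (homOfLE V.2.2).op b) (0, 0)
      (show lin X V.1 0 _ = lin X V.1 0 0 from (lin_zero_left X V.1 _).trans (h'.symm.trans (lin_zero X V.1).symm))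
    exact congrArg Prod.snd this

/-- Sections killed on the closed fibre are multiples of `ε`. -/
theorem exists_eq_eps_mul (U : X.left.Opens) (w : Γ(P X, p X ⁻¹ᵁ U))
    (hw : ∀ h : U ≤ (z X).left ⁻¹ᵁ (p X ⁻¹ᵁ U), (z X).left.appLE (p X ⁻¹ᵁ U) U h w = 0) :
    ∃ b : Γ(X.left, U), w = eps X _ * (p X).app U b := by
  have hle : ∀ V : X.left.Opens, V ≤ (z X).left ⁻¹ᵁ (p X ⁻¹ᵁ V) := fun V x hx => by
    show p X ((z X).left x) ∈ V
    rwa [← Scheme.Hom.comp_apply, z_p]
  let I := {V : X.left.Opens // IsAffineOpen V ∧ V ≤ U}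
  have hcov : U ≤ ⨆ V : I, V.1 := fun x hx => by
    obtain ⟨_, ⟨V, hV, rfl⟩, hxV, hVU⟩ := X.left.isBasis_affineOpens.exists_subset_of_mem_open hx U.isOpen
    exact Opens.mem_iSup.2 ⟨⟨V, hV, hVU⟩, hxV⟩
  have hloc : ∀ V : I, ∃ b : Γ(X.left, V.1),
      (P X).presheaf.map (homOfLE (show p X ⁻¹ᵁ V.1 ≤ p X ⁻¹ᵁ U from fun _ hx => V.2.2 hx)).op w =
        eps X _ * (p X).app V.1 b := fun V => by
    obtain ⟨⟨a, b⟩, hab⟩ := (lin_bijective X V.2.1).2
      ((P X).presheaf.map (homOfLE (show p X ⁻¹ᵁ V.1 ≤ p X ⁻¹ᵁ U from fun _ hx => V.2.2 hx)).op w)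
    simp only at hab
    refine ⟨b, ?_⟩
    have ha := congrArg ((z X).left.appLE (p X ⁻¹ᵁ V.1) V.1 (hle _)) hab
    rw [z_lin, ← CommRingCat.comp_apply, Scheme.Hom.map_appLE] at ha
    have : (z X).left.appLE (p X ⁻¹ᵁ U) V.1 ((hle _).trans fun _ hx => V.2.2 hx) w = 0 := by
      rw [← Scheme.Hom.appLE_map (z X).left (hle U) (homOfLE V.2.2).op, CommRingCat.comp_apply, hw, map_zero]
    rw [ha.trans this] at hab
    rw [← hab, lin, map_zero, zero_add]
  choose b hb using hloc
  obtain ⟨g, hg, -⟩ := X.left.sheaf.existsUnique_gluing' (fun V : I => V.1) U (fun V => homOfLE V.2.2) hcov b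
    fun V V' => by
      refine sub_eq_zero.1 (eq_zero_of_eps_mul X ?_)
      have hn := fun {A B : X.left.Opens} (h : A ≤ B) s =>
        ConcreteCategory.congr_hom ((p X).naturality (homOfLE h).op) s
      show eps X _ * (p X).app (V.1 ⊓ V'.1) (X.left.presheaf.map (homOfLE inf_le_left).op (b V) -
        X.left.presheaf.map (homOfLE inf_le_right).op (b V')) = 0
      rw [map_sub, mul_sub, sub_eq_zero]
      have e1 := congrArg ((P X).presheaf.map (homOfLE (show p X ⁻¹ᵁ (V.1 ⊓ V'.1) ≤ p X ⁻¹ᵁ V.1 from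
        fun _ hx => hx.1)).op) (hb V)
      have e2 := congrArg ((P X).presheaf.map (homOfLE (show p X ⁻¹ᵁ (V.1 ⊓ V'.1) ≤ p X ⁻¹ᵁ V'.1 from
        fun _ hx => hx.2)).op) (hb V')
      rw [map_mul, eps_res, ← CommRingCat.comp_apply, ← Functor.map_comp] at e1 e2
      have n1 := hn (inf_le_left : V.1 ⊓ V'.1 ≤ V.1) (b V)
      have n2 := hn (inf_le_right : V.1 ⊓ V'.1 ≤ V'.1) (b V')
      simp only [CommRingCat.comp_apply] at n1 n2
      rw [n1, n2]
      exact e1.symm.trans e2
  refine ⟨g, (P X).sheaf.eq_of_locally_eq' (fun V : I => p X ⁻¹ᵁ V.1) _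
    (fun V => homOfLE fun _ hx => V.2.2 hx) (fun x hx => ?_) _ _ fun V => ?_⟩
  · obtain ⟨V, hV⟩ := Opens.mem_iSup.1 (hcov hx)
    exact Opens.mem_iSup.2 ⟨V, hV⟩
  · have hn := ConcreteCategory.congr_hom ((p X).naturality (homOfLE V.2.2).op) g
    simp only [CommRingCat.comp_apply] at hn
    show (P X).presheaf.map _ w = (P X).presheaf.map _ _
    rw [hb, map_mul, eps_res, ← hg V]
    exact congrArg (eps X _ * ·) hn

theorem z_surjective : Function.Surjective (z X).left := by
  have hred : Surjective (TangentPow.red k k).left :=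
    ⟨fun y => ⟨IsLocalRing.closedPoint k, by
      obtain rfl : y = (TangentPow.red k k).left (IsLocalRing.closedPoint k) := by
        refine PrimeSpectrum.ext ?_
        apply le_antisymm
        · intro w hw
          show (fst (w : TrivSqZeroExt k k)) ∈ (IsLocalRing.closedPoint k).asIdeal
          have : IsLocalRing.closedPoint k = ⟨⊥, Ideal.isPrime_bot⟩ := Subsingleton.elim _ _
          rw [this]
          show fst (w : TrivSqZeroExt k k) = 0
          by_contra h
          exact y.isPrime.ne_top (Ideal.eq_top_of_isUnit_mem _ hw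
            (TrivSqZeroExt.isUnit_iff_isUnit_fst.2 (Ne.isUnit h)))
        · intro w hw
          have h0 : fst (w : TrivSqZeroExt k k) = 0 := by
            have : IsLocalRing.closedPoint k = ⟨⊥, Ideal.isPrime_bot⟩ := Subsingleton.elim _ _
            change fst (w : TrivSqZeroExt k k) ∈ (IsLocalRing.closedPoint k).asIdeal at hw
            rwa [this] at hw
          refine y.isPrime.mem_of_pow_mem 2 ?_
          have : (w : TrivSqZeroExt k k) ^ 2 = 0 := by ext <;> simp [pow_two, h0]
          rw [show w ^ 2 = 0 from this]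
          exact zero_mem _
      rfl⟩⟩
  haveI := hred
  have h : IsPullback (z X).left X.hom (snd X (T k)).left (TangentPow.red k k).left := by
    refine IsPullback.of_right (h₁₂ := p X) (v₁₃ := X.hom) (h₂₂ := (T k).hom) ?_ ?_
      (IsPullback.of_hasPullback _ _)
    · rw [Over.w (TangentPow.red k k), z_p]
      haveI : IsIso (𝟙_ (Over (Spec (CommRingCat.of k)))).hom := inferInstanceAs (IsIso (𝟙 _))
      exact IsPullback.of_horiz_isIso ⟨by simp⟩
    · rw [← Over.comp_left, z, lift_snd]
      rfl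
  haveI : Surjective (z X).left := MorphismProperty.of_isPullback h.flip hred
  exact (z X).left.surjective

theorem base_eq {f : P X ⟶ X.left} (hf : (z X).left ≫ f = 𝟙 _) : f.base = (p X).base := by
  ext x
  obtain ⟨y, rfl⟩ := z_surjective X x
  rw [← Scheme.Hom.comp_apply, hf, ← Scheme.Hom.comp_apply, z_p]

theorem hom_ext {f g : P X ⟶ X.left} (hf : (z X).left ≫ f = 𝟙 _) (hg : (z X).left ≫ g = 𝟙 _)
    (h : ∀ (U : X.left.Opens) (s : Γ(X.left, U)) e e',
      f.appLE U (p X ⁻¹ᵁ U) e s = g.appLE U (p X ⁻¹ᵁ U) e' s) : f = g := by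
  have hb : f.base = g.base := (base_eq X hf).trans (base_eq X hg).symm
  refine Scheme.Hom.ext hb fun U => ?_
  ext s
  have hfU : f ⁻¹ᵁ U = p X ⁻¹ᵁ U := by show (Opens.map f.base).obj U = _; rw [base_eq X hf]
  have hgU : g ⁻¹ᵁ U = p X ⁻¹ᵁ U := by show (Opens.map g.base).obj U = _; rw [base_eq X hg]
  have := congrArg ((P X).presheaf.map (eqToHom hgU).op) (h U s hfU.ge hgU.ge)
  simp only [Scheme.Hom.appLE, ← CommRingCat.comp_apply, Category.assoc, ← Functor.map_comp] at this
  convert this using 2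
  all_goals first | rfl | simp

variable {X}

/-- The derivative as functions. -/
def dFun (D : OmegaSh.Der X.hom (Coh.structureModule X.left)) (U : X.left.Opens) : Γ(X.left, U) →+ Γ(X.left, U) :=
  (OmegaSh.fnSect X.left U).comp (D.app U)

theorem dFun_mul (D : OmegaSh.Der X.hom (Coh.structureModule X.left)) (U : X.left.Opens) (a b : Γ(X.left, U)) :
    dFun D U (a * b) = a * dFun D U b + b * dFun D U a :=
  D.d_mul (X := op U) a b

theorem dFun_res (D : OmegaSh.Der X.hom (Coh.structureModule X.left)) {U V : X.left.Opens} (h : V ≤ U)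
    (a : Γ(X.left, U)) :
    dFun D V (X.left.presheaf.map (homOfLE h).op a) = X.left.presheaf.map (homOfLE h).op (dFun D U a) :=
  D.d_map (X := op U) (Y := op V) (homOfLE h).op a

theorem dFun_const (D : OmegaSh.Der X.hom (Coh.structureModule X.left)) (V : (Spec (CommRingCat.of k)).Opens)
    (a : Γ(Spec (CommRingCat.of k), V)) : dFun D (X.hom ⁻¹ᵁ V) (X.hom.app V a) = 0 :=
  D.d_app (X := op V) a

/-- The underlying map of the first order automorphism of a derivation. -/
def phiPre (D : OmegaSh.Der X.hom (Coh.structureModule X.left)) :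
    (P X).toPresheafedSpace ⟶ X.left.toPresheafedSpace where
  base := (p X).base
  c :=
    { app := fun U => CommRingCat.ofHom
        { toFun := fun s => lin X U.unop s (dFun D U.unop s)
          map_one' := by
            have : dFun D U.unop 1 = 0 := by simpa using dFun_mul D U.unop 1 1
            rw [this]
            exact lin_one X U.unop
          map_mul' := fun a b => by
            rw [dFun_mul]
            exact (lin_mul X U.unop a (dFun D U.unop a) b (dFun D U.unop b)).symm
          map_zero' := by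
            rw [map_zero]
            exact lin_zero X U.unop
          map_add' := fun a b => by
            show lin X U.unop (a + b) (dFun D U.unop (a + b)) = _
            rw [map_add]
            exact lin_add X U.unop a _ b _ }
      naturality := fun U V i => by
        ext s
        have := lin_res X i.unop.le s (dFun D U.unop s)
        rw [← dFun_res] at this
        exact this.symm }

/-- The first order automorphism of a derivation. -/
def phi (D : OmegaSh.Der X.hom (Coh.structureModule X.left)) : P X ⟶ X.left :=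
  ⟨⟨phiPre D, fun x => ⟨fun a ha => by
    obtain ⟨U, hxU, s, rfl⟩ := X.left.presheaf.exists_germ_eq a
    refine IsUnit.of_map ((p X).stalkMap x).hom _ ?_
    have e2 : (phiPre D).stalkMap x (X.left.presheaf.germ U _ hxU s) =
        (P X).presheaf.germ (p X ⁻¹ᵁ U) x hxU (lin X U s (dFun D U s)) :=
      ConcreteCategory.congr_hom (AlgebraicGeometry.PresheafedSpace.stalkMap_germ (phiPre D) U x hxU) s
    have ha' : IsUnit ((P X).presheaf.germ (p X ⁻¹ᵁ U) x hxU (lin X U s (dFun D U s))) := e2 ▸ ha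
    have e3 : ((p X).stalkMap x).hom (X.left.presheaf.germ U _ hxU s) =
        (P X).presheaf.germ (p X ⁻¹ᵁ U) x hxU ((p X).app U s) :=
      Scheme.Hom.germ_stalkMap_apply (p X) U x hxU s
    refine (congrArg IsUnit e3).mpr ?_
    rw [lin, map_add, map_mul] at ha'
    have hnil : IsNilpotent ((P X).presheaf.germ (p X ⁻¹ᵁ U) x hxU (eps X _) *
        (P X).presheaf.germ (p X ⁻¹ᵁ U) x hxU ((p X).app U (dFun D U s))) := ⟨2, by
      rw [mul_pow, pow_two ((P X).presheaf.germ _ x hxU (eps X _)), ← map_mul, eps_mul_eps, map_zero, zero_mul]⟩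
    simpa using IsNilpotent.isUnit_add_left_of_commute hnil.neg ha' (Commute.all _ _)⟩⟩⟩

theorem phi_appLE (D : OmegaSh.Der X.hom (Coh.structureModule X.left)) (U : X.left.Opens) (s : Γ(X.left, U))
    (e : p X ⁻¹ᵁ U ≤ phi D ⁻¹ᵁ U) : (phi D).appLE U (p X ⁻¹ᵁ U) e s = lin X U s (dFun D U s) := by
  show (P X).presheaf.map _ (lin X U s (dFun D U s)) = _
  rw [show (homOfLE e).op = 𝟙 (op (p X ⁻¹ᵁ U)) from rfl, (P X).presheaf.map_id]
  rfl

theorem z_phi (D : OmegaSh.Der X.hom (Coh.structureModule X.left)) : (z X).left ≫ phi D = 𝟙 _ := by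
  have hb : ((z X).left ≫ phi D).base = (𝟙 X.left : X.left ⟶ X.left).base := by
    show (z X).left.base ≫ (p X).base = _
    rw [← Scheme.Hom.comp_base, z_p]
  refine Scheme.Hom.ext hb fun U => ?_
  ext s
  have hle : U ≤ ((z X).left ≫ phi D) ⁻¹ᵁ U := fun x hx => by
    show ((z X).left ≫ phi D).base x ∈ U
    rw [hb]; exact hx
  have h2 : ((z X).left ≫ phi D).appLE U U hle s = s := by
    rw [← Scheme.Hom.appLE_comp_appLE (z X).left (phi D) U (p X ⁻¹ᵁ U) U (le_refl _) hle,
      CommRingCat.comp_apply, phi_appLE, z_lin]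
  rw [Scheme.Hom.appLE] at h2
  exact h2

theorem phi_hom (D : OmegaSh.Der X.hom (Coh.structureModule X.left)) : phi D ≫ X.hom = (X ⊗ T k).hom := by
  refine Eq.trans ?_ (Over.w (fst X (T k)))
  refine ext_of_isAffine ?_
  ext a
  show lin X (X.hom ⁻¹ᵁ ⊤) (X.hom.app ⊤ a) (dFun D _ (X.hom.app ⊤ a)) = (p X).app _ (X.hom.app ⊤ a)
  rw [dFun_const, lin, map_zero, mul_zero, add_zero]

/-- The family of a derivation. -/
def phiOver (D : OmegaSh.Der X.hom (Coh.structureModule X.left)) : X ⊗ T k ⟶ X :=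
  Over.homMk (phi D) (phi_hom D)

theorem z_phiOver (D : OmegaSh.Der X.hom (Coh.structureModule X.left)) : z X ≫ phiOver D = 𝟙 X :=
  Over.OverMorphism.ext (z_phi D)

theorem endOf_comp (D D' : OmegaSh.Der X.hom (Coh.structureModule X.left))
    (h : ∀ U s, dFun D' U s = -dFun D U s) :
    AutSch.endOf (phiOver D) ≫ AutSch.endOf (phiOver D') = 𝟙 _ := by
  refine CartesianMonoidalCategory.hom_ext _ _ ?_ ?_
  swap
  · rw [Category.assoc, AutSch.endOf_snd, AutSch.endOf_snd, Category.id_comp]
  rw [Category.assoc, AutSch.endOf_fst, Category.id_comp]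
  refine Over.OverMorphism.ext ?_
  obtain ⟨E, hE⟩ : ∃ E, E = (AutSch.endOf (phiOver D)).left := ⟨_, rfl⟩
  have hp : E ≫ p X = phi D := by rw [hE, p, ← Over.comp_left, AutSch.endOf_fst]; rfl
  have hq : E ≫ (snd X (T k)).left = (snd X (T k)).left := by rw [hE, ← Over.comp_left, AutSch.endOf_snd]
  have hz : (z X).left ≫ E = (z X).left := by
    rw [hE, ← Over.comp_left]
    refine congrArg (fun m : X ⟶ X ⊗ T k => m.left) (CartesianMonoidalCategory.hom_ext _ _ ?_ ?_)
    · rw [Category.assoc, AutSch.endOf_fst, z_phiOver, z, lift_fst]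
    · rw [Category.assoc, AutSch.endOf_snd]
  show (AutSch.endOf (phiOver D)).left ≫ phi D' = p X
  rw [← hE]
  refine hom_ext X (by rw [reassoc_of% hz, z_phi]) (z_p X) fun U s e e' => ?_
  have hW : p X ⁻¹ᵁ U ≤ E ⁻¹ᵁ (p X ⁻¹ᵁ U) := by
    intro x hx
    show p X (E x) ∈ U
    rw [← Scheme.Hom.comp_apply, hp]
    exact hx
  rw [← Scheme.Hom.appLE_comp_appLE E (phi D') U (p X ⁻¹ᵁ U) _ (le_refl _) hW, CommRingCat.comp_apply,
    phi_appLE, ← Scheme.Hom.app_eq_appLE]
  have hpt : ∀ t, E.appLE (p X ⁻¹ᵁ U) (p X ⁻¹ᵁ U) hW ((p X).app U t) = lin X U t (dFun D U t) := fun t => by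
    rw [Scheme.Hom.app_eq_appLE, ← CommRingCat.comp_apply, Scheme.Hom.appLE_comp_appLE, appLE_congr hp,
      phi_appLE]
  have heps : E.appLE (p X ⁻¹ᵁ U) (p X ⁻¹ᵁ U) hW (eps X _) = eps X _ := by
    rw [eps, ← CommRingCat.comp_apply, Scheme.Hom.appLE_comp_appLE, appLE_congr hq]
  rw [lin, map_add, map_mul, hpt, hpt, heps, h U s]
  simp only [lin]
  erw [map_neg, map_neg, map_neg]
  linear_combination (-(p X).app U (dFun D U (dFun D U s))) * eps_mul_eps X (p X ⁻¹ᵁ U)

/-- The negative of a derivation. -/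
def negDer (D : OmegaSh.Der X.hom (Coh.structureModule X.left)) :
    OmegaSh.Der X.hom (Coh.structureModule X.left) where
  d {U} := -D.d (X := U)
  d_mul a b := by
    show -(D.d (a * b)) = a • (-(D.d b)) + b • (-(D.d a))
    rw [D.d_mul, smul_neg, smul_neg, neg_add]
  d_map f x := by
    show -(D.d _) = _
    rw [D.d_map]
    exact (map_neg (((Coh.structureModule X.left).val.map f).hom) (D.d x)).symm
  d_app a := by
    show -(D.d _) = 0
    rw [D.d_app, neg_zero]

theorem isAutFamily_phiOver (D : OmegaSh.Der X.hom (Coh.structureModule X.left)) :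
    AutSch.IsAutFamily (phiOver D) :=
  ⟨AutSch.endOf (phiOver (negDer D)), endOf_comp D (negDer D) (fun _ _ => rfl),
    endOf_comp (negDer D) D fun U s => (neg_neg (dFun D U s)).symm⟩

theorem dFun_eq_zero_of_phiOver {D : OmegaSh.Der X.hom (Coh.structureModule X.left)}
    (h : phiOver D = fst X (T k)) (U : X.left.Opens) (s : Γ(X.left, U)) : dFun D U s = 0 := by
  refine eq_zero_of_eps_mul X ?_
  have h' := phi_appLE D U s le_rfl
  rw [appLE_congr (show phi D = p X from congrArg (fun m : X ⊗ T k ⟶ X => m.left) h), ← Scheme.Hom.app_eq_appLE] at h'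
  exact left_eq_add.1 h'

set_option maxHeartbeats 3000000 in
/-- If all derivations vanish, first order deformations of the identity are trivial. -/
theorem eq_fst_of_forall_dFun {φ : X ⊗ T k ⟶ X} (hφ : z X ≫ φ = 𝟙 X)
    (h : ∀ (D : OmegaSh.Der X.hom (Coh.structureModule X.left)) U s, dFun D U s = 0) : φ = fst X (T k) := by
  have hz : (z X).left ≫ φ.left = 𝟙 _ := congrArg (·.left) hφ
  have hle : ∀ U : X.left.Opens, p X ⁻¹ᵁ U ≤ φ.left ⁻¹ᵁ U := fun U => by
    show _ ≤ (Opens.map φ.left.base).obj U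
    rw [base_eq X hz]
  have hex : ∀ (U : X.left.Opens) (s : Γ(X.left, U)), ∃ b : Γ(X.left, U),
      φ.left.appLE U (p X ⁻¹ᵁ U) (hle U) s = lin X U s b := fun U s => by
    obtain ⟨b, hb⟩ := exists_eq_eps_mul X U (φ.left.appLE U (p X ⁻¹ᵁ U) (hle U) s - (p X).app U s) fun e => by
      rw [map_sub, Scheme.Hom.app_eq_appLE, ← CommRingCat.comp_apply, ← CommRingCat.comp_apply,
        Scheme.Hom.appLE_comp_appLE, Scheme.Hom.appLE_comp_appLE, appLE_congr hz,
        appLE_congr (z_p X), sub_self]
    exact ⟨b, sub_eq_iff_eq_add'.1 hb⟩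
  choose d hd using hex
  have hinj : ∀ (U : X.left.Opens) (a : Γ(X.left, U)) {b b' : Γ(X.left, U)},
      lin X U a b = lin X U a b' → b = b' := fun U a b b' hbb => by
    refine sub_eq_zero.1 (eq_zero_of_eps_mul X ?_)
    rw [map_sub, mul_sub, sub_eq_zero]
    exact add_left_cancel hbb
  let D : OmegaSh.Der X.hom (Coh.structureModule X.left) :=
    { d := fun {U} => AddMonoidHom.mk' (fun s => OmegaSh.strSect X.left U.unop (d U.unop s)) fun a b => by
        refine hinj U.unop (a + b) ?_
        show lin X U.unop (a + b) (d U.unop (a + b)) = lin X U.unop (a + b) (d U.unop a + d U.unop b)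
        rw [← hd, map_add, hd, hd, lin_add]
      d_mul := fun {U} a b => by
        show d U.unop (a * b) = a * d U.unop b + b * d U.unop a
        exact hinj U.unop (a * b) (by rw [← hd, map_mul, hd, hd, lin_mul])
      d_map := fun {U V} i x => by
        show d V.unop (X.left.presheaf.map i x) = X.left.presheaf.map i (d U.unop x)
        refine hinj V.unop (X.left.presheaf.map i x) ?_
        rw [← hd]
        have := lin_res X i.unop.le x (d U.unop x)
        refine Eq.trans ?_ this
        rw [← hd, ← CommRingCat.comp_apply, ← CommRingCat.comp_apply, Scheme.Hom.appLE_map, Scheme.Hom.map_appLE]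
      d_app := fun {V} a => by
        show d (X.hom ⁻¹ᵁ V.unop) (X.hom.app V.unop a) = 0
        refine hinj _ (X.hom.app V.unop a) ?_
        rw [← hd, Scheme.Hom.app_eq_appLE, ← CommRingCat.comp_apply, Scheme.Hom.appLE_comp_appLE,
          appLE_congr ((Over.w φ).trans (Over.w (fst X (T k))).symm)]
        refine Eq.trans ?_ (lin_zero_right X _ _).symm
        rw [Scheme.Hom.app_eq_appLE (p X)]
        exact (ConcreteCategory.congr_hom
          (Scheme.Hom.appLE_comp_appLE (p X) X.hom V.unop (X.hom ⁻¹ᵁ V.unop) _ le_rfl le_rfl) a).symm }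
  refine Over.OverMorphism.ext (show φ.left = p X from hom_ext X hz (z_p X) fun U s e e' => ?_)
  rw [hd, show d U s = 0 from h D U s, lin_zero_right, Scheme.Hom.app_eq_appLE]

end Groth.Agent.H26AutInf
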